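import Mathlib
import Cfsg.Prelude.Def_GeometricClasses
import Cfsg.Agent.Lib.Helper99.AschDefs
import Cfsg.Agent.Lib.Helper70.AschU.Defs
import Cfsg.Agent.Lib.Helper15.AschSlotNormLib
import Cfsg.Agent.Lib.Helper15.AschUPure

/-!
# Project ASCHU, module [U92] (sub-sheet coordinated by helper99): definitions

The case `(n, q) = (9, 2)` of the unitary Aschbacher theorem: the tensor-wreath group `GU_3(2) ≀ S_2` lies in the
normaliser of the symplectic-type group `3^{1+4}`.  Only definitions here.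

`F` is the field with 4 elements, `ω` a primitive cube root of unity (`ω² + ω + 1 = 0`), `σ x = x²`.
-/

set_option autoImplicit false

namespace Cfsg.Agent.Lib.Helper99.U92

open Cfsg Cfsg.Geo Cfsg.Agent.Lib.Helper15.AschSlotNorm
open scoped MatrixGroups Matrix

variable {F : Type*} [Field F]

/-- `diag(1, ω, ω²)` -/
def X3 (ω : F) : Matrix (Fin 3) (Fin 3) F := Matrix.diagonal ![1, ω, ω ^ 2]

/-- the cyclic permutation matrix -/
def Y3 : Matrix (Fin 3) (Fin 3) F := Matrix.of ![![0, 1, 0], ![0, 0, 1], ![1, 0, 0]]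

/-- the Fourier matrix `(ω^{ij})` -/
def W3 (ω : F) : Matrix (Fin 3) (Fin 3) F := Matrix.of ![![1, 1, 1], ![1, ω, ω ^ 2], ![1, ω ^ 2, ω]]

/-- the 27 matrices `ω^a X^b Y^c` of the extraspecial group `3^{1+2}` -/
def R3set (ω : F) : Set (Matrix (Fin 3) (Fin 3) F) :=
  {m | ∃ a b c : ℕ, m = ω ^ a • (X3 ω ^ b * Y3 ^ c)}

/-- the index type of the tensor square -/
abbrev I9 : Type := Fin 2 → Fin 3

/-- the 243 matrices `A ⊗ B`, `A B ∈ 3^{1+2}`, of the group `3^{1+4}` -/
def R9set (ω : F) : Set (Matrix I9 I9 F) :=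
  {M | ∃ A ∈ R3set ω, ∃ B ∈ R3set ω, M = PT ![A, B]}

/-- `A` is unitary for the standard hermitian form with respect to `σ` -/
def IsU (σ : F ≃+* F) {κ : Type*} [Fintype κ] [DecidableEq κ] (A : Matrix κ κ F) : Prop :=
  Aᵀ * A.map σ = 1

end Cfsg.Agent.Lib.Helper99.U92
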