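import Mathlib
import Cfsg.Prelude.Def_GeometricClasses
import Cfsg.Agent.Lib.Helper99.AschDefs
import Cfsg.Agent.Lib.Helper99.U92.Defs
import Cfsg.Agent.Lib.Helper95.U92F4
import Cfsg.Agent.Lib.Helper21.U92R9Group
import Cfsg.Agent.Lib.Helper21.U92R9Span
import Cfsg.Agent.Lib.Helper54.U92R9Norm
import Cfsg.Agent.Lib.Helper49.U92AbsIrrSpan
import Cfsg.Agent.Lib.Helper49.U92Transport
import Cfsg.Agent.Lib.Helper20.U92R9Symp
import Cfsg.Agent.Lib.Helper99.SympTypeCard
import Cfsg.Agent.Lib.Helper70.AschU.Form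
import Cfsg.Agent.Lib.Helper70.AschU.DefsR
import Cfsg.Agent.Lib.Helper1.AschC6

/-!
# Project ASCHU, module [U92]: the core (class-6 membership in the case (n, q) = (9, 2))
-/

set_option autoImplicit false

namespace Cfsg.Agent.Lib.Helper99.U92

open Cfsg Cfsg.Geo Cfsg.Agent.Lib.Helper99.Asch Cfsg.Agent.Lib.Helper70.AschU
open Cfsg.Agent.Lib.Helper15.AschSlotNorm Cfsg.Agent.Lib.Helper15.AschUPure
open scoped MatrixGroups Matrix

variable {F : Type*} [Field F] [Fintype F] {σ : F ≃+* F} {ω : F}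

/-- `IsU` is invariant under reindexing -/
theorem isU_reindex {κ κ' : Type} [Fintype κ] [DecidableEq κ] [Fintype κ'] [DecidableEq κ']
    (e : κ ≃ κ') (A : Matrix κ κ F) : IsU σ (Matrix.reindex e e A) ↔ IsU σ A := by
  unfold IsU
  simp only [Matrix.reindex_apply]
  rw [Matrix.transpose_submatrix, ← Matrix.submatrix_map, Matrix.submatrix_mul_equiv]
  constructor
  · intro h
    have := congrArg (fun M => M.submatrix e e) h
    simpa using this
  · intro h
    rw [h]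
    simp

theorem glReindex_symm_glReindex {κ κ' : Type} [Fintype κ] [DecidableEq κ] [Fintype κ'] [DecidableEq κ']
    (e : κ ≃ κ') (g : GL κ F) : glReindex e.symm (glReindex e g) = g := by
  apply Units.ext
  show Matrix.reindex e.symm e.symm (Matrix.reindex e e (g : Matrix κ κ F)) = g
  simp [Matrix.reindex_apply]

theorem card_scalars_four (hF : Fintype.card F = 2 ^ 2) {n : ℕ} (hn : 0 < n) :
    Nat.card (scalars (Fin n) F) = 3 := by
  classical
  unfold scalars
  have hinj : Function.Injective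
      (Units.map (Matrix.scalar (Fin n) : F →+* Matrix (Fin n) (Fin n) F).toMonoidHom) := by
    intro a b hab
    have h1 := congrArg (fun g : (Matrix (Fin n) (Fin n) F)ˣ => (g : Matrix (Fin n) (Fin n) F)) hab
    have h2 := congrFun (congrFun h1 ⟨0, hn⟩) ⟨0, hn⟩
    simp [Matrix.scalar_apply] at h2
    exact Units.ext h2
  rw [← Nat.card_congr (MonoidHom.ofInjective hinj).toEquiv, Nat.card_units, Nat.card_eq_fintype_card, hF]
  norm_num

/-- the core: class-6 membership -/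
theorem ugeo_nine_two_core (hσ : UCtx σ 2) (hω : ω ^ 2 + ω + 1 = 0)
    (hnorm : ∀ a : GL (Fin 3) F, IsU σ (a : Matrix (Fin 3) (Fin 3) F) → ∀ m ∈ R3set ω,
      (a : Matrix (Fin 3) (Fin 3) F) * m * ((a⁻¹ : GL (Fin 3) F) : Matrix (Fin 3) (Fin 3) F) ∈ R3set ω)
    (H : Subgroup (GL (Fin 9) F)) (hH : H ≤ GU 9 F 2) (e : Fin 9 ≃ I9) (P : GL (Fin 9) F)
    (hP : P ∈ GU 9 F 2)
    (hHP : ∀ h ∈ H, glReindex e (P⁻¹ * h * P) ∈ tensorWreathStandard 3 2 F) : UGeoR 2 H := by
  classical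
  have hF : Fintype.card F = 2 ^ 2 := hσ.card
  obtain ⟨R, hR⟩ := exists_R9 (F := F) hω
  -- the transport isomorphism
  let ψ : GL I9 F ≃* GL (Fin 9) F := (glReindex e.symm).trans (MulAut.conj P)
  have hψ : ∀ g : GL I9 F, ψ g = P * glReindex e.symm g * P⁻¹ := fun g => rfl
  set R' : Subgroup (GL (Fin 9) F) := R.map ψ.toMonoidHom with hR'
  have hmemR' : ∀ g ∈ R, ψ g ∈ R' := fun g hg => ⟨g, hg, rfl⟩
  -- unitary elements of `GL I9 F` go to `GU`
  have hGU_of_isU : ∀ g : GL I9 F, IsU σ (g : Matrix I9 I9 F) → glReindex e.symm g ∈ GU 9 F 2 := by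
    intro g hg
    rw [mem_GU_iff_matrix hσ]
    have : IsU σ (Matrix.reindex e.symm e.symm (g : Matrix I9 I9 F)) := (isU_reindex e.symm _).mpr hg
    exact this
  have hisU_of_GU : ∀ x : GL (Fin 9) F, x ∈ GU 9 F 2 →
      IsU σ ((glReindex e x : GL I9 F) : Matrix I9 I9 F) := by
    intro x hx
    have h1 := (mem_GU_iff_matrix hσ x).mp hx
    have : IsU σ (Matrix.reindex e e (x : Matrix (Fin 9) (Fin 9) F)) := (isU_reindex e _).mpr h1
    exact this
  -- `R' ≤ GU`
  have hR'GU : R' ≤ GU 9 F 2 := by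
    rintro _ ⟨g, hg, rfl⟩
    have hgU : IsU σ (g : Matrix I9 I9 F) := isU_of_mem_R9set hσ hω ((hR g).mp hg)
    show ψ g ∈ GU 9 F 2
    rw [hψ]
    exact (GU 9 F 2).mul_mem ((GU 9 F 2).mul_mem hP (hGU_of_isU g hgU)) ((GU 9 F 2).inv_mem hP)
  -- `H` normalises `R'`
  have hnrm : Nrm H R' := by
    rintro h hh _ ⟨r, hr, rfl⟩
    set g : GL I9 F := glReindex e (P⁻¹ * h * P) with hg
    have hψg : ψ g = h := by
      rw [hψ, hg, glReindex_symm_glReindex]
      group
    have hgU : IsU σ (g : Matrix I9 I9 F) := by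
      apply hisU_of_GU
      exact (GU 9 F 2).mul_mem ((GU 9 F 2).mul_mem ((GU 9 F 2).inv_mem hP) (hH hh)) hP
    have hmem : g * r * g⁻¹ ∈ R := by
      rw [hR]
      have := conj_mem_R9set hσ hω hnorm g (hHP h hh) hgU ((hR r).mp hr)
      simpa [Units.val_mul] using this
    have : h * ψ.toMonoidHom r * h⁻¹ = ψ (g * r * g⁻¹) := by
      rw [map_mul, map_mul, map_inv, hψg]
      rfl
    rw [this]
    exact hmemR' _ hmem
  -- symplectic type, absolute irreducibility
  have hsymp : IsSymplecticTypeGroup 3 R' :=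
    isSymplecticTypeGroup_map ψ 3 R (isSymplecticTypeGroup_R9 hσ hω R hR)
  have habs : ActsAbsolutelyIrreducibly (matrixSet R') := by
    apply absIrred_of_span_eq_top
    rw [eq_top_iff]
    intro N _
    -- the linear map `M ↦ P (reindex M) P⁻¹`
    let Φ : Matrix I9 I9 F →ₗ[F] Matrix (Fin 9) (Fin 9) F :=
      (LinearMap.mulLeft F (P : Matrix (Fin 9) (Fin 9) F)) ∘ₗ
        (LinearMap.mulRight F ((P⁻¹ : GL (Fin 9) F) : Matrix (Fin 9) (Fin 9) F)) ∘ₗ
        (Matrix.reindexLinearEquiv F F e.symm e.symm).toLinearMap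
    have hΦ : ∀ M, Φ M = (P : Matrix (Fin 9) (Fin 9) F) *
        (Matrix.reindex e.symm e.symm M * ((P⁻¹ : GL (Fin 9) F) : Matrix (Fin 9) (Fin 9) F)) := fun M => rfl
    set M₀ : Matrix I9 I9 F := Matrix.reindex e e
      (((P⁻¹ : GL (Fin 9) F) : Matrix (Fin 9) (Fin 9) F) * N * (P : Matrix (Fin 9) (Fin 9) F)) with hM₀
    have hN : N = Φ M₀ := by
      rw [hΦ, hM₀]
      have h1 : (P : Matrix (Fin 9) (Fin 9) F) * ((P⁻¹ : GL (Fin 9) F) : Matrix (Fin 9) (Fin 9) F) = 1 := by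
        rw [← Units.val_mul, mul_inv_cancel, Units.val_one]
      simp only [Matrix.reindex_apply, Matrix.submatrix_submatrix, Equiv.symm_symm,
        Equiv.symm_comp_self, Matrix.submatrix_id_id]
      calc N = ((P : Matrix (Fin 9) (Fin 9) F) * ((P⁻¹ : GL (Fin 9) F) : Matrix (Fin 9) (Fin 9) F)) * N *
            ((P : Matrix (Fin 9) (Fin 9) F) * ((P⁻¹ : GL (Fin 9) F) : Matrix (Fin 9) (Fin 9) F)) := by
            rw [h1, one_mul, mul_one]
        _ = _ := by simp only [mul_assoc]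
    have hM₀mem : M₀ ∈ Submodule.span F (R9set ω) := by
      rw [span_R9set hF hω]; trivial
    have hle : (Submodule.span F (R9set ω)).map Φ ≤ Submodule.span F (matrixSet R') := by
      rw [Submodule.map_span]
      apply Submodule.span_mono
      rintro _ ⟨M, hM, rfl⟩
      -- `M` is the matrix of an element of `R`
      obtain ⟨A, hA, B, hB, rfl⟩ := hM
      have hcube := pow_three_of_mem_R9set hω (⟨A, hA, B, hB, rfl⟩ : PT ![A, B] ∈ R9set ω)
      let g : GL I9 F := ⟨PT ![A, B], PT ![A, B] ^ 2, by rw [← pow_succ', hcube], by rw [← pow_succ, hcube]⟩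
      have hgR : g ∈ R := (hR g).mpr ⟨A, hA, B, hB, rfl⟩
      refine ⟨ψ g, hmemR' g hgR, ?_⟩
      show ((P * glReindex e.symm g * P⁻¹ : GL (Fin 9) F) : Matrix (Fin 9) (Fin 9) F) = Φ (PT ![A, B])
      rw [hΦ, Units.val_mul, Units.val_mul, mul_assoc]
      rfl
    rw [hN]
    exact hle ⟨M₀, hM₀mem, rfl⟩
  -- the cardinalities
  have h9 : 0 < 9 := by norm_num
  have hscal : scalars (Fin 9) F ≤ R' := by
    intro z hz
    obtain ⟨c, hc⟩ := (mem_scalars_iff z).mp hz
    have hc0 : (c : F) ≠ 0 := c.ne_zero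
    obtain ⟨a, ha⟩ : ∃ a : ℕ, (c : F) = ω ^ a := by
      rcases eq_zero_or_pow hF hω (c : F) with h | h | h | h
      · exact absurd h hc0
      · exact ⟨0, by rw [h, pow_zero]⟩
      · exact ⟨1, by rw [h, pow_one]⟩
      · exact ⟨2, h⟩
    have hmemS : ω ^ a • (1 : Matrix I9 I9 F) ∈ R9set ω := smul_one_mem_R9set a
    obtain ⟨A, hA, B, hB, hAB⟩ := hmemS
    have hcube := pow_three_of_mem_R9set hω (⟨A, hA, B, hB, rfl⟩ : PT ![A, B] ∈ R9set ω)
    let g : GL I9 F := ⟨PT ![A, B], PT ![A, B] ^ 2, by rw [← pow_succ', hcube], by rw [← pow_succ, hcube]⟩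
    have hgR : g ∈ R := (hR g).mpr ⟨A, hA, B, hB, rfl⟩
    have hzg : z = ψ g := by
      apply Units.ext
      rw [hc, hψ, Units.val_mul, Units.val_mul]
      show _ = (P : Matrix (Fin 9) (Fin 9) F) * Matrix.reindex e.symm e.symm (PT ![A, B]) *
        ((P⁻¹ : GL (Fin 9) F) : Matrix (Fin 9) (Fin 9) F)
      rw [← hAB, ← ha]
      have h1 : (P : Matrix (Fin 9) (Fin 9) F) * ((P⁻¹ : GL (Fin 9) F) : Matrix (Fin 9) (Fin 9) F) = 1 := by
        rw [← Units.val_mul, mul_inv_cancel, Units.val_one]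
      simp [Matrix.reindex_apply, Matrix.submatrix_smul]
    rw [hzg]
    exact hmemR' g hgR
  have hZ : Nat.card (Subgroup.center R') = 3 := by
    rw [Cfsg.Agent.Lib.Helper99.SympTypeCard.card_center_eq_card_inf_scalars h9 R' habs,
      inf_eq_right.mpr hscal]
    exact card_scalars_four hF h9
  have hcard : Nat.card R' = 3 ^ (1 + 2 * 2) := by
    rw [Cfsg.Agent.Lib.Helper99.SympTypeCard.card_eq_of_isSymplecticTypeGroup h9 3 R' hsymp habs, hZ]
    norm_num
  -- the field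
  have h2 : (2 : F) = 0 := two_eq_zero hF
  have hchar : CharP F 2 := CharTwo.of_one_ne_zero_of_two_eq_zero one_ne_zero h2
  have hmin : IsMinimalFieldFor (Nat.card (Subgroup.center R')) 2 2 F := by
    rw [hZ]
    refine ⟨Nat.prime_two, hchar, hF, by norm_num, ?_⟩
    intro d hd0 hd2
    have : d = 1 := by omega
    subst this
    norm_num
  -- class 6
  refine ⟨subgroupNormalizer R' ⊓ GU 9 F 2, Or.inr ?_,
    le_inf (Cfsg.Agent.Lib.Helper1.AschC6.le_subgroupNormalizer_of_nrm H R' hnrm) hH⟩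
  exact ⟨3, R', 2, 2, 2, hsymp, habs, fun g hg => GU_le_Sim (hR'GU hg), by norm_num, hmin,
      Or.inl ⟨by decide, hZ, by norm_num, hcard⟩, by norm_num, rfl⟩

end Cfsg.Agent.Lib.Helper99.U92

namespace Cfsg.Agent.Lib.Helper99.U92

open Cfsg Cfsg.Geo Cfsg.Agent.Lib.Helper99.Asch Cfsg.Agent.Lib.Helper70.AschU
open scoped MatrixGroups Matrix

variable {F : Type*} [Field F] [Fintype F] {σ : F ≃+* F} {ω : F}

/-- over the field with four elements a similarity of the standard unitary form is an isometry -/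
theorem mem_GU_of_mem_Sim (hσ : UCtx σ 2) {n : ℕ} (hn : 0 < n) {P : GL (Fin n) F}
    (hP : P ∈ Sim n F 2) : P ∈ GU n F 2 := by
  obtain ⟨c, hc⟩ := mem_Sim_iff.mp hP
  have hm := (hasMult_iff hσ P (c : F)).mp hc
  -- the multiplier is fixed by `σ`
  have hcc : σ (c : F) = (c : F) := by
    have h1 := congrArg (fun M : Matrix (Fin n) (Fin n) F => (M.map σ)ᵀ) hm
    simp only [Matrix.map_mul, Matrix.transpose_mul, Matrix.transpose_map, Matrix.transpose_transpose] at h1
    have h2 : ((P : Matrix (Fin n) (Fin n) F).map σ).map σ = (P : Matrix (Fin n) (Fin n) F) := by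
      ext i j
      simp [hσ.invol]
    rw [h2, hm] at h1
    have h3 := congrFun (congrFun h1 ⟨0, hn⟩) ⟨0, hn⟩
    simp [Matrix.smul_apply, Matrix.map_apply] at h3
    exact h3.symm
  have hc1 : (c : F) = 1 := by
    rw [hσ.frob] at hcc
    have : (c : F) * ((c : F) - 1) = 0 := by rw [mul_sub, mul_one, ← sq, hcc, sub_self]
    rcases mul_eq_zero.mp this with h | h
    · exact absurd h c.ne_zero
    · exact sub_eq_zero.mp h
  rw [mem_GU_iff_matrix hσ, hm, hc1, one_smul]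

/-- the core, for a similarity `P` -/
theorem ugeo_nine_two_of_sim (hσ : UCtx σ 2) (hω : ω ^ 2 + ω + 1 = 0)
    (hnorm : ∀ a : GL (Fin 3) F, IsU σ (a : Matrix (Fin 3) (Fin 3) F) → ∀ m ∈ R3set ω,
      (a : Matrix (Fin 3) (Fin 3) F) * m * ((a⁻¹ : GL (Fin 3) F) : Matrix (Fin 3) (Fin 3) F) ∈ R3set ω)
    (H : Subgroup (GL (Fin 9) F)) (hH : H ≤ GU 9 F 2) (e : Fin 9 ≃ I9) (P : GL (Fin 9) F)
    (hP : P ∈ Sim 9 F 2)
    (hHP : ∀ h ∈ H, glReindex e (P⁻¹ * h * P) ∈ tensorWreathStandard 3 2 F) : UGeoR 2 H :=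
  ugeo_nine_two_core hσ hω hnorm H hH e P (mem_GU_of_mem_Sim hσ (by norm_num) hP) hHP

end Cfsg.Agent.Lib.Helper99.U92
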