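import Mathlib
import Cfsg.Prelude.Def_GeometricClasses
import Cfsg.Agent.Lib.Helper99.AschDefs
import Cfsg.Agent.Lib.Helper99.U92.Defs
import Cfsg.Agent.Lib.Helper99.U92.Core
import Cfsg.Agent.Lib.Helper70.AschU.Form
import Cfsg.Agent.Lib.Helper70.AschU.DefsR
import Cfsg.Agent.Lib.Helper7.AschUGU32Norm
import Cfsg.Agent.Lib.Helper86.AschUHermOn
import Cfsg.Agent.Lib.Helper15.AschUPure
import Cfsg.Agent.Lib.Helper20.AschU.Basic

/-!
# Project ASCHU, module [U92]: the wrappers (helper70's exact `ugeo_nine_two`, and the `UTensorStd` form of helper20's Part I)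
-/

set_option autoImplicit false

namespace Cfsg.Agent.Lib.Helper99.U92

open Cfsg Cfsg.Geo Cfsg.Agent.Lib.Helper99.Asch Cfsg.Agent.Lib.Helper70.AschU
open Cfsg.Agent.Lib.Helper15.AschSlotNorm Cfsg.Agent.Lib.Helper15.AschUPure Cfsg.Agent.Lib.Helper37.Asch
open scoped MatrixGroups Matrix Kronecker

variable {F : Type*} [Field F] [Fintype F] {σ : F ≃+* F} {ω : F}

/-- helper7's ASCHU-[GU32-NORM] in the matrix form used by the core -/
theorem hnorm_of_GU32 (hσ : UCtx σ 2) (hω : ω ^ 2 + ω + 1 = 0) :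
    ∀ a : GL (Fin 3) F, IsU σ (a : Matrix (Fin 3) (Fin 3) F) → ∀ m ∈ R3set ω,
      (a : Matrix (Fin 3) (Fin 3) F) * m * ((a⁻¹ : GL (Fin 3) F) : Matrix (Fin 3) (Fin 3) F) ∈ R3set ω := by
  intro a ha m hm
  exact Cfsg.Agent.Lib.Helper70.AschU.conj_mem_R3set hσ.card ω hω a ((mem_GU_iff_matrix hσ a).mpr ha) m hm

/-- the case `(9, 2)`, from a similarity `P` with `P⁻¹ H P` in the standard tensor wreath group -/
theorem ugeoR_nine_two_of_tws (hF : Fintype.card F = 2 ^ 2) (H : Subgroup (GL (Fin 9) F)) (hH : H ≤ GU 9 F 2)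
    (e : Fin 9 ≃ I9) (P : GL (Fin 9) F) (hP : P ∈ Sim 9 F 2)
    (hHP : ∀ h ∈ H, glReindex e (P⁻¹ * h * P) ∈ tensorWreathStandard 3 2 F) : UGeoR 2 H := by
  obtain ⟨σ, hσ⟩ := exists_uctx hF
  obtain ⟨ω, hω⟩ := exists_omega hF
  exact ugeo_nine_two_of_sim hσ hω (hnorm_of_GU32 hσ hω) H hH e P hP hHP

theorem val_glReindex {κ κ' : Type} [Fintype κ] [DecidableEq κ] [Fintype κ'] [DecidableEq κ']
    (e : κ ≃ κ') (g : GL κ F) :
    ((glReindex e g : GL κ' F) : Matrix κ' κ' F) = Matrix.reindex e e (g : Matrix κ κ F) := rfl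

/-- the case `(9, 2)`, in the form produced by helper20's Part I -/
theorem ugeoR_nine_two_of_utensorStd (hF : Fintype.card F = 2 ^ 2) (H : Subgroup (GL (Fin 9) F))
    (hH : H ≤ GU 9 F 2) (h : Cfsg.Agent.Lib.Helper20.AschU.UTensorStd 2 H 3 3) : UGeoR 2 H := by
  obtain ⟨idx, P, hP, hH'⟩ := h
  refine ugeoR_nine_two_of_tws hF H hH (idx.trans (piFinTwoEquiv (fun _ => Fin 3)).symm) P hP ?_
  intro g hg
  obtain ⟨a, b, hab⟩ := hH' g hg
  apply Subgroup.subset_closure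
  left
  refine ⟨![a, b], ?_⟩
  intro x y
  rw [val_glReindex, hab, Fin.prod_univ_two]
  simp [Matrix.kroneckerMap_apply]

end Cfsg.Agent.Lib.Helper99.U92

namespace Cfsg.Agent.Lib.Helper70.AschU

open Cfsg Cfsg.Geo Cfsg.Agent.Lib.Helper99.Asch Cfsg.Agent.Lib.Helper99.U92
open Cfsg.Agent.Lib.Helper15.AschSlotNorm Cfsg.Agent.Lib.Helper15.AschUPure Cfsg.Agent.Lib.Helper37.Asch
open scoped MatrixGroups Matrix Kronecker

variable {F : Type*} [Field F] [Fintype F]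

/-- ASCHU-[U92], refined conclusion -/
theorem ugeoR_nine_two (hF : Fintype.card F = 2 ^ 2) (H : Subgroup (GL (Fin 9) F)) (hH : H ≤ GU 9 F 2)
    (e : Fin 9 ≃ (Fin 2 → Fin 3)) (P : GL (Fin 9) F) (f₁ : (Fin 3 → F) → (Fin 3 → F) → F)
    (hf₁ : IsUnitaryFormPow 2 f₁)
    (hT : IsTensorPowerFormStructure (fun x : F => x ^ 2) (hermForm 9 F 2) f₁ e P)
    (hHle : H ≤ tensorWreathSubgroup 3 2 e P) : UGeoR 2 H := by
  classical
  obtain ⟨σ, hσ⟩ := exists_uctx hF
  obtain ⟨c, hc, hform⟩ := hT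
  -- `f₁` is sesquilinear
  have hs : IsSesqForm σ f₁ := by
    refine ⟨hf₁.add_left, hf₁.smul_left, ?_, ?_⟩
    · intro v x y
      rw [hf₁.herm v (x + y), hf₁.add_left, ← hσ.frob, map_add, hσ.frob, hσ.frob, ← hf₁.herm, ← hf₁.herm]
    · intro a v x
      rw [hf₁.herm v (a • x), hf₁.smul_left, mul_pow, ← hf₁.herm, hσ.frob]
  set G : Matrix (Fin 3) (Fin 3) F := gram f₁ with hG
  have hGu : IsUnit G := hs.isUnit_gram hf₁.nondegenerate
  have hGh : (G.map σ)ᵀ = G := by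
    ext a b
    rw [Matrix.transpose_apply, Matrix.map_apply, hσ.frob]
    exact (hf₁.herm _ _).symm
  obtain ⟨C, hC⟩ := exists_orthonormal hσ G hGu hGh
  -- the Gram matrix of `P`
  have hJ : (P : Matrix (Fin 9) (Fin 9) F)ᵀ * (P : Matrix (Fin 9) (Fin 9) F).map σ =
      c • (PT (fun _ : Fin 2 => G)).submatrix e e := by
    ext i j
    have h1 := hform (Pi.single (e i) 1) (Pi.single (e j) 1)
    have hx : ∀ i : Fin 9, ((Pi.single (e i) 1 : (Fin 2 → Fin 3) → F) ∘ e) = Pi.single i 1 := by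
      intro i
      ext k
      simp [Pi.single_apply]
    rw [hx, hx, hermForm_eq_formOf hσ, formOf_mulVec, Matrix.mul_one] at h1
    have h2 := congrFun (congrFun (gram_formOf σ
      ((P : Matrix (Fin 9) (Fin 9) F)ᵀ * (P : Matrix (Fin 9) (Fin 9) F).map σ)) i) j
    have h3 : gram (formOf σ ((P : Matrix (Fin 9) (Fin 9) F)ᵀ * (P : Matrix (Fin 9) (Fin 9) F).map σ)) i j =
        formOf σ ((P : Matrix (Fin 9) (Fin 9) F)ᵀ * (P : Matrix (Fin 9) (Fin 9) F).map σ)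
          (Pi.single i 1) (Pi.single j 1) := rfl
    rw [← h2, h3, h1, Matrix.smul_apply, smul_eq_mul, Matrix.submatrix_apply]
    congr 1
    rw [Finset.sum_eq_single (e i), Finset.sum_eq_single (e j)]
    · simp [PT, gramMatrix, hG, gram]
    · intro b _ hb
      simp [Pi.single_apply, hb]
    · intro h; exact absurd (Finset.mem_univ _) h
    · intro a _ ha
      simp [Pi.single_apply, ha]
    · intro h; exact absurd (Finset.mem_univ _) h
  -- the new base change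
  set T : GL (Fin 2 → Fin 3) F := ptGL (fun _ : Fin 2 => C) with hTdef
  have hTmem : T ∈ tensorWreathStandard 3 2 F :=
    Subgroup.subset_closure (Or.inl ⟨fun _ => C, fun x y => rfl⟩)
  set P' : GL (Fin 9) F := P * glReindex e.symm T with hP'
  have hP'val : (P' : Matrix (Fin 9) (Fin 9) F) =
      (P : Matrix (Fin 9) (Fin 9) F) * (PT (fun _ : Fin 2 => (C : Matrix (Fin 3) (Fin 3) F))).submatrix e e := by
    rw [hP', Units.val_mul]
    rfl
  have hP'sim : P' ∈ Sim 9 F 2 := by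
    refine mem_Sim_iff.mpr ⟨Units.mk0 c hc, (hasMult_iff hσ P' c).mpr ?_⟩
    rw [hP'val, Matrix.transpose_mul, Matrix.map_mul, Matrix.mul_assoc,
      ← Matrix.mul_assoc _ ((P : Matrix (Fin 9) (Fin 9) F).map σ), hJ, Matrix.transpose_submatrix,
      ← Matrix.submatrix_map, Matrix.smul_mul, Matrix.mul_smul, Matrix.submatrix_mul_equiv,
      Matrix.submatrix_mul_equiv, PT_transpose, PT_map, PT_mul, PT_mul]
    have : (fun i : Fin 2 => (C : Matrix (Fin 3) (Fin 3) F)ᵀ * (G * (C : Matrix (Fin 3) (Fin 3) F).map σ)) =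
        fun _ => 1 := by
      funext i
      rw [← Matrix.mul_assoc]
      exact hC
    rw [this, PT_one, Matrix.submatrix_one_equiv]
  refine ugeoR_nine_two_of_tws hF H hH e P' hP'sim ?_
  intro h hh
  obtain ⟨y, ⟨g, hg, rfl⟩, rfl⟩ := hHle hh
  have : P'⁻¹ * ((MulAut.conj P).toMonoidHom ((glReindex e.symm).toMonoidHom g)) * P' =
      glReindex e.symm (T⁻¹ * g * T) := by
    rw [hP', map_mul, map_mul, map_inv]
    show (P * glReindex e.symm T)⁻¹ * (P * glReindex e.symm g * P⁻¹) * (P * glReindex e.symm T) = _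
    group
  rw [this]
  have h2 := glReindex_symm_glReindex e.symm (T⁻¹ * g * T)
  rw [Equiv.symm_symm] at h2
  rw [h2]
  exact Subgroup.mul_mem _ (Subgroup.mul_mem _ (Subgroup.inv_mem _ hTmem) hg) hTmem

/-- ASCHU-[U92] -/
theorem ugeo_nine_two (hF : Fintype.card F = 2 ^ 2) (H : Subgroup (GL (Fin 9) F)) (hH : H ≤ GU 9 F 2)
    (e : Fin 9 ≃ (Fin 2 → Fin 3)) (P : GL (Fin 9) F) (f₁ : (Fin 3 → F) → (Fin 3 → F) → F)
    (hf₁ : IsUnitaryFormPow 2 f₁)
    (hT : IsTensorPowerFormStructure (fun x : F => x ^ 2) (hermForm 9 F 2) f₁ e P)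
    (hHle : H ≤ tensorWreathSubgroup 3 2 e P) : UGeo 2 H :=
  (ugeoR_nine_two hF H hH e P f₁ hf₁ hT hHle).ugeo

end Cfsg.Agent.Lib.Helper70.AschU
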